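import Cfsg.Agent.Block.ZStarElt
import Cfsg.Agent.Block.PrincBurn
import Cfsg.Agent.Solv.PSolvable

/-!
# Pairs of conjugates of elements of a strongly closed central subgroup of a Sylow subgroup
-/

set_option autoImplicit false

open Cfsg Subgroup Cfsg.Lib.Block Cfsg.Lib.Block.Princ

namespace Cfsg.Lib.GlSz

variable {G : Type*} [Group G] [Finite G] {p : ℕ} [hp : Fact p.Prime]

omit [Finite G] hp in
theorem orderOf_isConj {a b : G} (h : IsConj a b) : orderOf a = orderOf b := by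
  obtain ⟨c, rfl⟩ := isConj_iff.1 h
  exact ((MulAut.conj c).orderOf_eq a).symm

theorem exists_conj_mk_eq (S : Sylow p G) (K : Subgroup G) [K.Normal] {s : G}
    (hs : ∃ k, orderOf s = p ^ k)
    (h : QuotientGroup.mk' K s ∈ (S : Subgroup G).map (QuotientGroup.mk' K)) :
    ∃ t ∈ (S : Subgroup G), IsConj s t ∧ QuotientGroup.mk' K t = QuotientGroup.mk' K s := by
  have h1 : s ∈ (S : Subgroup G) ⊔ K := by
    have := comap_map_eq (QuotientGroup.mk' K) (S : Subgroup G)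
    rw [QuotientGroup.ker_mk'] at this
    rw [← this]; exact h
  obtain ⟨n, hn, h2⟩ := exists_conj_mem_of_mem_sup S K hs h1
  refine ⟨_, h2, isConj_iff.2 ⟨n, rfl⟩, ?_⟩
  have : QuotientGroup.mk' K n = 1 := (QuotientGroup.eq_one_iff n).2 hn
  rw [map_mul, map_mul, map_inv, this, one_mul, inv_one, mul_one]

theorem pair_top (hs : IsPSolvable p G) (S : Sylow p G) {W : Subgroup G}
    (hWS : W ≤ (S : Subgroup G)) (hc : ∀ w ∈ W, ∀ s ∈ (S : Subgroup G), w * s = s * w)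
    (hsc : ∀ w ∈ W, ∀ t ∈ (S : Subgroup G), IsConj w t → t ∈ W) {a b : G}
    (ha : ∃ x ∈ W, IsConj x a) (hb : ∃ y ∈ W, IsConj y b) (hgen : closure ({a, b} : Set G) = ⊤) :
    ∃ x ∈ W, ∃ y ∈ W, IsConj x a ∧ IsConj y b ∧ (∃ z, IsPPart p (a * b) z ∧ IsConj (x * y) z) ∧
      ∃ z, IsPPart p (a * b⁻¹) z ∧ IsConj (x * y⁻¹) z := by
  set K := pPrimeCore p G
  set f := QuotientGroup.mk' K with hf
  have h1 : pCore p (G ⧸ K) ≤ (S : Subgroup G).map f :=
    Solv.pCore_le_sylow (S.mapSurjective (QuotientGroup.mk'_surjective _))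
  have h2 : ∀ w ∈ W, f w ∈ pCore p (G ⧸ K) := fun w hw =>
    (hs.quotient _).centralizer_pCore_le (Solv.pPrimeCore_quotient_pPrimeCore p G)
      (mem_centralizer_iff.2 fun u hu => by
        obtain ⟨s, hs, rfl⟩ := h1 hu
        rw [← map_mul, ← map_mul, hc w hw s hs])
  have h3 : ∀ a : G, (∃ x ∈ W, IsConj x a) → ∃ x ∈ W, IsConj x a ∧ f x = f a := by
    rintro a ⟨w, hw, hwa⟩
    obtain ⟨g, rfl⟩ := isConj_iff.1 hwa
    obtain ⟨t, ht, h4, h5⟩ := exists_conj_mk_eq S K (s := g * w * g⁻¹)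
      (orderOf_isConj hwa ▸ orderOf_eq_pow_of_mem S.isPGroup' (hWS hw))
      (h1 (by rw [map_mul, map_mul, map_inv]; exact Normal.conj_mem inferInstance _ (h2 w hw) _))
    exact ⟨t, hsc w hw t ht (hwa.trans h4), h4.symm, h5⟩
  obtain ⟨x, hx, hxa, ex⟩ := h3 a ha
  obtain ⟨y, hy, hyb, ey⟩ := h3 b hb
  have hall : ∀ g : G, f g ∈ W.map f := by
    intro g
    have : (⊤ : Subgroup G) ≤ (W.map f).comap f := by
      rw [← hgen, closure_le]
      rintro z (rfl | rfl)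
      · exact ⟨x, hx, ex⟩
      · exact ⟨y, hy, ey⟩
    exact this (mem_top g)
  have key : ∀ g : G, ∀ w ∈ W, f g = f w → ∃ z, IsPPart p g z ∧ IsConj w z := by
    intro g w hw e
    obtain ⟨z, hz⟩ := exists_isPPart hp.out g
    refine ⟨z, hz, ?_⟩
    obtain ⟨u, rfl, -, hz1, hu⟩ := hz
    have hu1 : f u = 1 := by
      obtain ⟨k, hk⟩ := orderOf_eq_pow_of_mem ((S.isPGroup'.to_le hWS).map f) (hall u)
      rcases k with _ | k
      · exact orderOf_eq_one_iff.1 (by simpa using hk)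
      · exact absurd ((dvd_pow_self p k.succ_ne_zero).trans (hk ▸ orderOf_map_dvd f u)) hu
    rw [map_mul, hu1, mul_one] at e
    obtain ⟨t, ht, h4, h5⟩ := exists_conj_mk_eq S K hz1 ⟨w, hWS hw, e.symm⟩
    have h6 : t⁻¹ * w ∈ (S : Subgroup G) ⊓ K :=
      mem_inf.2 ⟨mul_mem (inv_mem ht) (hWS hw), QuotientGroup.eq.1 (h5.trans e)⟩
    rw [Solv.inf_eq_bot_of_isPGroup_of_coprime S.isPGroup' (Solv.coprime_card_pPrimeCore p G),
      mem_bot, inv_mul_eq_one] at h6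
    exact h6 ▸ h4.symm
  exact ⟨x, hx, y, hy, hxa, hyb, key _ _ (mul_mem hx hy) (by rw [map_mul, map_mul, ex, ey]),
    key _ _ (mul_mem hx (inv_mem hy)) (by rw [map_mul, map_mul, map_inv, map_inv, ex, ey])⟩

/-- The local hypotheses. -/
structure Hyp (p : ℕ) {G : Type*} [Group G] (P : Sylow p G) (V : Subgroup G) : Prop where
  le : V ≤ (P : Subgroup G)
  ne : V ≠ ⊥
  cent : ∀ v ∈ V, ∀ y ∈ (P : Subgroup G), v * y = y * v
  pow : ∀ v ∈ V, v ^ p = 1
  sc : ∀ v ∈ V, ∀ t ∈ (P : Subgroup G), IsConj v t → t ∈ V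
  nil : ∀ x : G, orderOf x = p →
    ∃ k : ℕ, (pPrimeCore p (centralizer ({x} : Set G))).index = p ^ k
  solv : ∀ x y : G, orderOf x = p → orderOf y = p → IsPSolvable p (closure ({x, y} : Set G))

namespace Hyp

variable {P : Sylow p G} {V : Subgroup G} (h : Hyp p P V)
include h

omit [Finite G] in
theorem orderOf_eq {v : G} (hv : v ∈ V) (h1 : v ≠ 1) : orderOf v = p :=
  orderOf_eq_prime (h.pow v hv) h1

theorem pair {a b x₀ y₀ : G} (hx₀ : x₀ ∈ V) (hx1 : x₀ ≠ 1) (hy₀ : y₀ ∈ V) (hy1 : y₀ ≠ 1)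
    (ha : IsConj x₀ a) (hb : IsConj y₀ b) :
    ∃ x ∈ V, ∃ y ∈ V, IsConj x a ∧ IsConj y b ∧ (∃ z, IsPPart p (a * b) z ∧ IsConj (x * y) z) ∧
      ∃ z, IsPPart p (a * b⁻¹) z ∧ IsConj (x * y⁻¹) z := by
  have hoa : orderOf a = p := orderOf_isConj ha ▸ h.orderOf_eq hx₀ hx1
  have hob : orderOf b = p := orderOf_isConj hb ▸ h.orderOf_eq hy₀ hy1
  set H := closure ({a, b} : Set G)
  have haH : a ∈ H := subset_closure (by simp)
  have hbH : b ∈ H := subset_closure (by simp)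
  have hgen : closure ({⟨a, haH⟩, ⟨b, hbH⟩} : Set H) = ⊤ := by
    apply map_injective H.subtype_injective
    rw [MonoidHom.map_closure, ← MonoidHom.range_eq_map, range_subtype, Set.image_pair]
    rfl
  obtain ⟨S⟩ : Nonempty (Sylow p H) := inferInstance
  obtain ⟨Q, hQ⟩ := (S.isPGroup'.map H.subtype).exists_le_sylow
  obtain ⟨g, hg⟩ := MulAction.exists_smul_eq G Q P
  let φ : H →* G := (MulAut.conj g).toMonoidHom.comp H.subtype
  have hφ : ∀ s : H, φ s = g * s * g⁻¹ := fun s => rfl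
  have hφc : ∀ s : H, IsConj (s : G) (φ s) := fun s => isConj_iff.2 ⟨g, rfl⟩
  have hφi : Function.Injective φ := (MulAut.conj g).injective.comp H.subtype_injective
  have hS : ∀ s ∈ (S : Subgroup H), φ s ∈ (P : Subgroup G) := fun s hs => by
    rw [← hg]
    exact Subgroup.smul_mem_pointwise_smul _ (MulAut.conj g) _ (hQ ⟨s, hs, rfl⟩)
  have hin : ∀ (c : H) (v : G), v ∈ V → IsConj v (c : G) → orderOf (c : G) = p →
      ∃ x ∈ (S : Subgroup H) ⊓ V.comap φ, IsConj x c := by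
    intro c v hv hvc ho
    obtain ⟨k, hk⟩ := exists_conj_mem_sylow S (z := c) ⟨1, by rw [← orderOf_coe, ho, pow_one]⟩
    have hc : IsConj c (k * c * k⁻¹) := isConj_iff.2 ⟨k, rfl⟩
    exact ⟨_, ⟨hk, h.sc v hv _ (hS _ hk) ((hvc.trans (H.subtype.map_isConj hc)).trans (hφc (k * c * k⁻¹)))⟩,
      hc.symm⟩
  obtain ⟨x, hx, y, hy, hxa, hyb, ⟨z, hz, hz'⟩, ⟨z', hw, hw'⟩⟩ := pair_top (h.solv a b hoa hob) S
    (W := (S : Subgroup H) ⊓ V.comap φ) inf_le_left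
    (fun w hw s hs => hφi (by rw [map_mul, map_mul, h.cent _ hw.2 _ (hS s hs)]))
    (fun w hw t ht hwt => ⟨ht, h.sc _ hw.2 _ (hS t ht) (φ.map_isConj hwt)⟩)
    (hin ⟨a, haH⟩ x₀ hx₀ ha hoa) (hin ⟨b, hbH⟩ y₀ hy₀ hb hob) hgen
  refine ⟨φ x, hx.2, φ y, hy.2, (hφc x).symm.trans (H.subtype.map_isConj hxa),
    (hφc y).symm.trans (H.subtype.map_isConj hyb), ⟨z, IsPPart_map hp.out H.subtype hz, ?_⟩,
    ⟨z', IsPPart_map hp.out H.subtype hw, ?_⟩⟩
  · rw [← map_mul]; exact (hφc _).symm.trans (H.subtype.map_isConj hz')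
  · rw [← map_inv, ← map_mul]; exact (hφc _).symm.trans (H.subtype.map_isConj hw')

end Hyp

end Cfsg.Lib.GlSz
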